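import Cfsg.Agent.LThreeMBTr.Tr
set_option linter.all false

-- merged: Cfsg.Agent.LThreeMBTr.Eq
section

/-!
# The trace formula and the isometries of the spin space

`chr_eq` : the trace of an element with data `(A, α, T)`;
`exists_inv` : `T` has an inverse of the same trace; `tr_sq` : `2 (tr T)² = #{αp = p} - #{αp = zp}`.
-/

set_option autoImplicit false

namespace Cfsg.Agent.LThreeMBTr

open Cfsg Cfsg.Spor Cfsg.Agent.LeechMat.Core Cfsg.Agent.MonsterX.KSide Cfsg.Agent.MonsterX.KLift
open Cfsg.Agent.SporadicStructure.Co0Base (e8 e8_coe)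
open Cfsg.Agent.SigZeroCo2.Lin (rep)

variable {G V P W : Type*} [Group G] [AddCommGroup V] [Module ℚ V]
  [DistribMulAction G V] [SMulCommClass G ℚ V] [Group P] [AddCommGroup W] [Module ℚ W]

/-! ### The character of `Co0` -/

/-- The trace of an element of `Co0`. -/
noncomputable def chi (A : Co0) : ℚ := LinearMap.trace ℚ (GolayPt → ℚ) (rep A)

theorem chi_sum (A : Co0) : chi A = ∑ i, rep A (Pi.single i 1) i := by
  unfold chi
  rw [LinearMap.trace_eq_matrix_trace ℚ (Pi.basisFun ℚ GolayPt), Matrix.trace]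
  refine Finset.sum_congr rfl fun i _ => ?_
  rw [Matrix.diag_apply, LinearMap.toMatrix_apply, Pi.basisFun_apply, Pi.basisFun_repr]

theorem chi_sq (A : Co0) : chi (A * A) = ∑ i, ∑ j, rep A (Pi.single i 1) j * rep A (Pi.single j 1) i := by
  rw [chi_sum]
  refine Finset.sum_congr rfl fun i _ => ?_
  rw [map_mul, Module.End.mul_apply]
  conv_lhs => rw [sum_single (rep A (Pi.single i 1))]
  rw [map_sum, Finset.sum_apply]
  refine Finset.sum_congr rfl fun j _ => ?_
  rw [map_smul, Pi.smul_apply, smul_eq_mul]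

section basis

variable (M : KS G V P W) {J : Type} [Fintype J] [DecidableEq J] {b : Module.Basis J ℚ W}
  (hb : ∀ i j p q, M.B (M.Θ (b i) (Pi.single p 1)) (M.Θ (b j) (Pi.single q 1)) = if i = j ∧ p = q then 1 else 0)

theorem act_Θ_single {k : G} {A : Co0} {α : P ≃* P} {T : Module.End ℚ W}
    (hA : Acts M.Sh M.lam M.u M.X M.Θ M.ρ k A α T) (f : W) (p : GolayPt) :
    k • M.Θ f (Pi.single p 1) = M.Θ (T f) (rep A (Pi.single p 1)) := by
  have h1 : (Pi.single p 1 : GolayPt → ℚ) = (8⁻¹ : ℚ) • rat (e8 p) := by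
    rw [rat_e8, smul_smul]; norm_num
  rw [h1, map_smul, smul_comm, hA.act_Θ, map_smul, rep_rat, map_smul]

theorem trace_W (b : Module.Basis J ℚ W) (T : Module.End ℚ W) : LinearMap.trace ℚ W T = ∑ a, b.repr (T (b a)) a := by
  rw [LinearMap.trace_eq_matrix_trace ℚ b, Matrix.trace]
  refine Finset.sum_congr rfl fun a _ => ?_
  rw [Matrix.diag_apply, LinearMap.toMatrix_apply]

include hb in
/-- **The trace of an element of `K`.** -/
theorem chr_eq [FiniteDimensional ℚ V] [Fintype P] [DecidableEq P] [DecidablePred (· ∈ M.Sh)] {k : G} {A : Co0}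
    {α : P ≃* P} {T : Module.End ℚ W} (hA : Acts M.Sh M.lam M.u M.X M.Θ M.ρ k A α T) :
    chr V k = (chi A ^ 2 + chi (A * A)) / 2 +
      ∑ x ∈ Finset.univ.filter (· ∈ M.Sh), 2⁻¹ * M.B (M.X (α x)) (M.X x) +
      chi A * LinearMap.trace ℚ W T := by
  rw [chr_sum M hb k]
  congr 1
  · congr 1
    · rw [pow_two, chi_sum, Finset.sum_mul_sum, chi_sq, ← Finset.sum_add_distrib, Finset.sum_div]
      refine Finset.sum_congr rfl fun i _ => ?_
      rw [← Finset.sum_add_distrib, Finset.sum_div]
      refine Finset.sum_congr rfl fun j _ => ?_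
      rw [B_smul_S0 M hA.act_u]
      ring
    · refine Finset.sum_congr rfl fun x hx => ?_
      rw [hA.act_X x (Finset.mem_filter.1 hx).2]
  · rw [trace_W b, chi_sum, Finset.sum_mul_sum, Finset.sum_comm]
    refine Finset.sum_congr rfl fun p _ => Finset.sum_congr rfl fun a _ => ?_
    rw [act_Θ_single M hA, B_Θ_basis M hb]
    ring

/-! ### Isometries of the spin space -/

/-- The form on the spin space. -/
noncomputable def be (b : Module.Basis J ℚ W) (f g : W) : ℚ := ∑ a, b.repr f a * b.repr g a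

include hb in
theorem B_ΘΘ (f g : W) (v w : GolayPt → ℚ) : M.B (M.Θ f v) (M.Θ g w) = be b f g * ∑ p, v p * w p := by
  rw [Θ_eq_sum M b g w, map_sum]
  unfold be
  rw [Finset.sum_mul_sum]
  refine Finset.sum_congr rfl fun a _ => ?_
  rw [map_sum]
  refine Finset.sum_congr rfl fun p _ => ?_
  rw [map_smul, B_Θ_basis M hb, smul_eq_mul]
  ring

theorem norm_rep (A : Co0) (p : GolayPt) :
    ∑ q, rep A (Pi.single p 1) q * rep A (Pi.single p 1) q = 1 := by
  rw [rep_single]
  have h1 : ∑ q, rat (A • e8 p) q * rat (A • e8 p) q = 64 := by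
    rw [← dot_cast]
    have h2 : dot (A • e8 p) (A • e8 p) = dot (e8 p) (e8 p) := co0_dotInt A _ _
    rw [h2, dot_e8, rat_e8, Pi.smul_apply, Pi.single_eq_same]
    norm_num
  calc ∑ q, ((8⁻¹ : ℚ) • rat (A • e8 p)) q * ((8⁻¹ : ℚ) • rat (A • e8 p)) q
      = ∑ q, (64⁻¹ : ℚ) * (rat (A • e8 p) q * rat (A • e8 p) q) := by
        refine Finset.sum_congr rfl fun q _ => ?_
        rw [Pi.smul_apply, smul_eq_mul]
        ring
    _ = 1 := by rw [← Finset.mul_sum, h1]; norm_num

include hb in
theorem be_isom {k : G} {A : Co0} {α : P ≃* P} {T : Module.End ℚ W}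
    (hA : Acts M.Sh M.lam M.u M.X M.Θ M.ρ k A α T) (f g : W) : be b (T f) (T g) = be b f g := by
  have h1 := M.B_inv k (M.Θ f (Pi.single none 1)) (M.Θ g (Pi.single none 1))
  rw [act_Θ_single M hA, act_Θ_single M hA, B_ΘΘ M hb, B_ΘΘ M hb, norm_rep, mul_one] at h1
  rw [h1, Finset.sum_eq_single none]
  · rw [Pi.single_eq_same]; ring
  · intro q _ hq
    rw [Pi.single_eq_of_ne hq, mul_zero]
  · intro h; exact absurd (Finset.mem_univ _) h

include hb in
/-- The inverse of the operator on the spin space has the same trace. -/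
theorem exists_inv {k : G} {A : Co0} {α : P ≃* P} {T : Module.End ℚ W}
    (hA : Acts M.Sh M.lam M.u M.X M.Θ M.ρ k A α T) :
    ∃ T' : Module.End ℚ W, T' * T = 1 ∧ T * T' = 1 ∧ LinearMap.trace ℚ W T' = LinearMap.trace ℚ W T := by
  let X := LinearMap.toMatrix b b T
  have h1 : X.transpose * X = 1 := by
    ext i j
    rw [Matrix.mul_apply, Matrix.one_apply]
    have h2 := be_isom M hb hA (b i) (b j)
    have h3 : be b (b i) (b j) = if i = j then 1 else 0 := by
      unfold be
      simp only [Module.Basis.repr_self]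
      rw [Finset.sum_eq_single i]
      · rw [Finsupp.single_eq_same, one_mul, Finsupp.single_apply]
        simp only [eq_comm]
      · intro a _ ha
        rw [Finsupp.single_eq_of_ne ha, zero_mul]
      · intro h; exact absurd (Finset.mem_univ _) h
    rw [h3] at h2
    rw [← h2]
    simp only [X, Matrix.transpose_apply, LinearMap.toMatrix_apply]
    rfl
  have h2 : X * X.transpose = 1 := mul_eq_one_comm.1 h1
  refine ⟨Matrix.toLin b b X.transpose, ?_, ?_, ?_⟩
  · have h3 : T = Matrix.toLin b b X := (Matrix.toLin_toMatrix b b T).symm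
    conv_lhs => rw [h3]
    rw [Module.End.mul_eq_comp, ← Matrix.toLin_mul, h1, Matrix.toLin_one]
    rfl
  · have h3 : T = Matrix.toLin b b X := (Matrix.toLin_toMatrix b b T).symm
    conv_lhs => rw [h3]
    rw [Module.End.mul_eq_comp, ← Matrix.toLin_mul, h2, Matrix.toLin_one]
    rfl
  · rw [Matrix.trace_toLin_eq, Matrix.trace_transpose, LinearMap.trace_eq_matrix_trace ℚ b]

/-! ### The average over the extraspecial group -/

theorem trace_ρ_conj (q p : P) : LinearMap.trace ℚ W (M.ρ (p * q * p⁻¹)) = LinearMap.trace ℚ W (M.ρ q) := by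
  rw [map_mul M.ρ, map_mul M.ρ, LinearMap.trace_mul_comm, ← mul_assoc, ← map_mul M.ρ, inv_mul_cancel, map_one, one_mul]

theorem trace_ρ [DecidableEq P] (b : Module.Basis J ℚ W) {θ : leechLattice → P} (L : Lift M θ) (q : P) :
    LinearMap.trace ℚ W (M.ρ q) = if q = 1 then (Fintype.card J : ℚ) else
      if q = M.zc then -(Fintype.card J : ℚ) else 0 := by
  classical
  have hfin : Module.finrank ℚ W = Fintype.card J := Module.finrank_eq_card_basis b
  have hW : Module.Finite ℚ W := Module.Finite.of_basis b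
  split_ifs with h1 h2
  · rw [h1, map_one, LinearMap.trace_one, hfin]
  · have h3 : M.ρ q = -1 := by
      rw [h2]
      ext f
      exact M.ρ_z f
    rw [h3, map_neg, LinearMap.trace_one, hfin]
  · obtain ⟨p, hp⟩ : ∃ p, q * p ≠ p * q := by
      by_contra hcon
      push Not at hcon
      rcases L.center q hcon with h | h
      · exact h1 h
      · exact h2 h
    have h3 : p * q * p⁻¹ = M.zc * q := by
      rcases M.comm_or p q with e | e
      · exact absurd (mul_inv_eq_iff_eq_mul.1 e).symm hp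
      · exact e
    have h4 := trace_ρ_conj M q p
    have h5 : M.ρ (M.zc * q) = -M.ρ q := by
      rw [map_mul]
      ext f
      exact M.ρ_z _
    rw [h3, h5, map_neg] at h4
    linarith

include hb in
/-- `2 (tr T)² = #{αp = p} - #{αp = zp}`. -/
theorem tr_sq [Fintype P] [DecidableEq P] (hJ : Fintype.card J = 4096) {θ : leechLattice → P} (L : Lift M θ)
    {k : G} {A : Co0} {α : P ≃* P} {T : Module.End ℚ W} (hA : Acts M.Sh M.lam M.u M.X M.Θ M.ρ k A α T) :
    2 * LinearMap.trace ℚ W T ^ 2 =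
      ((Finset.univ.filter fun p => α p = p).card : ℚ) - (Finset.univ.filter fun p => α p = M.zc * p).card := by
  classical
  have hfin : Module.finrank ℚ W = Fintype.card J := Module.finrank_eq_card_basis b
  have hW : Module.Finite ℚ W := Module.Finite.of_basis b
  obtain ⟨T', h1, h2, h3⟩ := exists_inv M hb hA
  obtain ⟨c, hc⟩ := M.comm_scalar (∑ p, M.ρ p * T * M.ρ p⁻¹) (fun p f =>
    congrArg (fun X : Module.End ℚ W => X f) (Cfsg.Agent.MonsterU.TwoB0.comm_avg M.ρ T p))
  have hc' : ∑ p, M.ρ p * T * M.ρ p⁻¹ = c • (1 : Module.End ℚ W) := by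
    ext f
    exact hc f
  have hcard : Fintype.card P = 2 ^ 25 := by rw [← Nat.card_eq_fintype_card, L.card]
  have h4 : (2 ^ 25 : ℚ) * LinearMap.trace ℚ W T = c * 4096 := by
    have h5 := congrArg (LinearMap.trace ℚ W) hc'
    rw [map_sum, map_smul, LinearMap.trace_one, hfin, hJ] at h5
    have h6 : ∀ p : P, LinearMap.trace ℚ W (M.ρ p * T * M.ρ p⁻¹) = LinearMap.trace ℚ W T := by
      intro p
      rw [LinearMap.trace_mul_comm, ← mul_assoc, ← map_mul, inv_mul_cancel, map_one, one_mul]
    rw [Finset.sum_congr rfl fun p _ => h6 p, Finset.sum_const, Finset.card_univ, hcard, nsmul_eq_mul,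
      smul_eq_mul] at h5
    push_cast at h5
    exact h5
  have h5 : ∑ p, M.ρ (p * (α p)⁻¹) = c • T' := by
    have h6 := congrArg (fun X => X * T') hc'
    simp only [Finset.sum_mul, smul_mul_assoc, one_mul] at h6
    rw [← h6]
    refine Finset.sum_congr rfl fun p _ => ?_
    have h7 : T * M.ρ p⁻¹ = M.ρ (α p)⁻¹ * T := by
      ext f
      have := hA.act_ρ p⁻¹ f
      rw [map_inv α] at this
      exact this
    rw [mul_assoc (M.ρ p), h7, mul_assoc, mul_assoc, h2, mul_one, ← map_mul]
  have h6 := congrArg (LinearMap.trace ℚ W) h5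
  rw [map_sum, map_smul, smul_eq_mul, h3] at h6
  have h7 : ∀ p : P, LinearMap.trace ℚ W (M.ρ (p * (α p)⁻¹)) =
      4096 * ((if α p = p then 1 else 0) - (if α p = M.zc * p then 1 else 0)) := by
    intro p
    have e1 : p * (α p)⁻¹ = 1 ↔ α p = p := by rw [mul_inv_eq_one, eq_comm]
    have e2 : p * (α p)⁻¹ = M.zc ↔ α p = M.zc * p := by
      rw [mul_inv_eq_iff_eq_mul]
      constructor
      · intro h
        conv_rhs => rw [h]
        rw [M.zc_zc]
      · intro h
        rw [h, M.zc_zc]
    rw [trace_ρ M b L, hJ]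
    simp only [e1, e2]
    by_cases g1 : α p = p
    · have g2 : ¬ α p = M.zc * p := by
        rw [g1]
        exact (M.zc_ne' p).symm
      rw [if_pos g1, if_pos g1, if_neg g2]
      norm_num
    · rw [if_neg g1, if_neg g1]
      split_ifs <;> norm_num
  rw [Finset.sum_congr rfl fun p _ => h7 p, ← Finset.mul_sum, Finset.sum_sub_distrib, Finset.sum_boole,
    Finset.sum_boole] at h6
  have h8 : c = 8192 * LinearMap.trace ℚ W T := by linarith
  rw [h8] at h6
  linarith

end basis

end Cfsg.Agent.LThreeMBTr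

end

-- merged: Cfsg.Agent.LThreeMBTr.CoChar
section

/-!
# The character of degree 24 of `Co0`

`chi_one`, `chi_neg`, `chi_inv`, `chi_sign`; `chi_quad` : the value `-12` at the elements with `A² + A + 1 = 0`;
`chi_quad_mul`; `chi_bound` : the values at involutions different from `-1`.
-/

set_option autoImplicit false

namespace Cfsg.Agent.LThreeMBTr

open Cfsg Cfsg.Spor Cfsg.Agent.LeechMat.Core Cfsg.Agent.MonsterX.KSide Cfsg.Agent.MonsterX.KLift
open Cfsg.Agent.SporadicStructure.Co0Base (e8 e8_coe)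
open Cfsg.Agent.SporadicA.Co0Mono (signCo0 signCo0_smul signMap_apply sgn)
open Cfsg.Agent.SporadicA.Co1Simple (allOne allOne_smul)
open Cfsg.Agent.CoOneType.SignFacts (wt sup mem_sup notMem_sup)
open Cfsg.Agent.SigZeroCo2.Lin (rep)
open Module

theorem chi_one : chi 1 = 24 := by
  unfold chi
  rw [map_one]
  exact Cfsg.Agent.SigZeroCo2.Lin.trace_one

theorem rep_neg : rep (signCo0 allOne) = -1 := by
  apply Cfsg.Agent.SigZeroCo2.Lin.ext_e8
  intro i
  show rep (signCo0 allOne) (rat (e8 i)) = -rat (e8 i)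
  rw [rep_rat, allOne_smul, rat_neg]

theorem chi_neg (A : Co0) : chi (A * signCo0 allOne) = -chi A := by
  unfold chi
  have h : rep (A * signCo0 allOne) = -rep A := by
    rw [map_mul, rep_neg]
    apply LinearMap.ext
    intro v
    exact map_neg (rep A) v
  rw [h, map_neg]

theorem rep_diag (A : Co0) (i : GolayPt) :
    rep A (Pi.single i 1) i = ((dot (e8 i) (A • e8 i) : ℤ) : ℚ) / 64 := by
  rw [rep_single, dot_e8, Pi.smul_apply, smul_eq_mul]
  ring

theorem chi_inv (A : Co0) : chi A⁻¹ = chi A := by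
  rw [chi_sum, chi_sum]
  refine Finset.sum_congr rfl fun i _ => ?_
  rw [rep_diag, rep_diag]
  congr 2
  have h1 : dot (A • e8 i) (A • A⁻¹ • e8 i) = dot (e8 i) (A⁻¹ • e8 i) := co0_dotInt A _ _
  rw [← h1, smul_inv_smul]
  exact dotInt_comm _ _

theorem chi_sign (c : golayCode) : chi (signCo0 c) = 24 - 2 * (wt c : ℚ) := by
  rw [chi_sum]
  have h1 : ∀ i : GolayPt, rep (signCo0 c) (Pi.single i 1) i = 1 - 2 * (if i ∈ sup c then 1 else 0) := by
    intro i
    have h2 : rat (signCo0 c • e8 i) i = (sgn ((c : GolayPt → ZMod 2) i) : ℚ) * 8 := by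
      show ((((signCo0 c • e8 i : leechLattice) : GolayPt → ℤ) i : ℤ) : ℚ) = _
      rw [signCo0_smul, signMap_apply, e8_coe, Pi.single_eq_same]
      push_cast
      ring
    rw [rep_single, Pi.smul_apply, smul_eq_mul, h2]
    by_cases hi : i ∈ sup c
    · rw [if_pos hi, (mem_sup c i).1 hi]
      norm_num [sgn]
    · rw [if_neg hi, (notMem_sup c i).1 hi]
      norm_num [sgn]
  rw [Finset.sum_congr rfl fun i _ => h1 i, Finset.sum_sub_distrib, ← Finset.mul_sum, Finset.sum_ite_mem,
    Finset.univ_inter]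
  have h2 : Fintype.card GolayPt = 24 := by decide
  simp only [Finset.sum_const, Finset.card_univ, h2, nsmul_eq_mul, mul_one]
  rw [wt]
  norm_num

/-- `A² + A + 1 = 0` on the lattice. -/
def Quad (A : Co0) : Prop := ∀ v : leechLattice, A • A • v + A • v + v = 0

theorem Quad.lin {A : Co0} (h : Quad A) : rep A * rep A + rep A + 1 = 0 := by
  apply Cfsg.Agent.SigZeroCo2.Lin.ext_e8
  intro i
  show rep A (rep A (rat (e8 i))) + rep A (rat (e8 i)) + rat (e8 i) = 0
  rw [rep_rat, rep_rat, ← rat_add, ← rat_add, h]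
  funext j
  simp [rat]

theorem chi_quad {A : Co0} (h : Quad A) (h3 : A * A * A = 1) : chi A = -12 := by
  have h1 := congrArg (LinearMap.trace ℚ (GolayPt → ℚ)) h.lin
  rw [map_add, map_add, map_zero, ← map_mul rep] at h1
  have h2 : A * A = A⁻¹ := by rw [← mul_eq_one_iff_eq_inv]; exact h3
  have h4 : chi (A * A) + chi A + chi 1 = 0 := by
    unfold chi
    rw [map_one rep]
    exact h1
  rw [h2, chi_inv, chi_one] at h4
  linarith

theorem chi_quad_mul {A B : Co0} (h : Quad A) (h3 : A * A * A = 1) (hB : B * B = 1) (hAB : A * B = B * A) :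
    2 * chi (A * B) = -chi B := by
  have h1 := congrArg (fun X => LinearMap.trace ℚ (GolayPt → ℚ) (X * rep B)) h.lin
  simp only [add_mul, one_mul, zero_mul, map_add, map_zero] at h1
  have h4 : chi (A * A * B) + chi (A * B) + chi B = 0 := by
    unfold chi
    rw [map_mul rep, map_mul rep, map_mul rep]
    exact h1
  have h5 : A * A * B = (A * B)⁻¹ := by
    rw [← mul_eq_one_iff_eq_inv]
    calc A * A * B * (A * B) = A * A * (B * A) * B := by group
      _ = A * A * (A * B) * B := by rw [hAB]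
      _ = A * A * A * (B * B) := by group
      _ = 1 := by rw [h3, hB, mul_one]
  rw [h5, chi_inv] at h4
  linarith

theorem chi_tr8 (A : Co0) : chi A = (Cfsg.Agent.Co2Type.Mono.tr8 A : ℚ) / 8 :=
  Cfsg.Agent.SigZeroCo2.Lin.trace_rep A

theorem chi_bound {B : Co0} (hB : B * B = 1) (h1 : B ≠ 1) (h2 : B ≠ signCo0 allOne) :
    -22 ≤ chi B ∧ chi B ≤ 22 := by
  have f1 := Cfsg.Agent.SigZeroCo2.Lin.finrank_fix_two hB
  have f2 := Cfsg.Agent.SigZeroCo2.Lin.finrank_neg_two hB
  have hBB : ∀ v, rep B (rep B v) = v := fun v => by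
    rw [← Cfsg.Agent.SigZeroCo2.Lin.rep_mul, hB, Cfsg.Agent.SigZeroCo2.Lin.rep_one]
  have g1 : finrank ℚ (Cfsg.Agent.SigZeroCo2.Rank.fix (rep B)) ≠ 0 := by
    intro h
    rw [Submodule.finrank_eq_zero] at h
    apply h2
    apply Cfsg.Agent.SigZeroCo2.Lin.rep_injective
    rw [rep_neg]
    apply LinearMap.ext
    intro v
    have h3 : v + rep B v ∈ Cfsg.Agent.SigZeroCo2.Rank.fix (rep B) := by
      rw [Cfsg.Agent.SigZeroCo2.Rank.mem_fix, map_add, hBB, add_comm]
    rw [h, Submodule.mem_bot] at h3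
    exact eq_neg_of_add_eq_zero_right h3
  have g2 : finrank ℚ (Cfsg.Agent.SigZeroCo2.Lin.neg (rep B)) ≠ 0 := by
    intro h
    rw [Submodule.finrank_eq_zero] at h
    apply h1
    apply Cfsg.Agent.SigZeroCo2.Lin.rep_injective
    rw [map_one]
    apply LinearMap.ext
    intro v
    have h3 : v - rep B v ∈ Cfsg.Agent.SigZeroCo2.Lin.neg (rep B) := by
      rw [Cfsg.Agent.SigZeroCo2.Lin.mem_neg, map_sub, hBB, neg_sub]
    rw [h, Submodule.mem_bot, sub_eq_zero] at h3
    exact h3.symm
  have k1 : (1 : ℚ) ≤ finrank ℚ (Cfsg.Agent.SigZeroCo2.Rank.fix (rep B)) := by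
    exact_mod_cast Nat.one_le_iff_ne_zero.2 g1
  have k2 : (1 : ℚ) ≤ finrank ℚ (Cfsg.Agent.SigZeroCo2.Lin.neg (rep B)) := by
    exact_mod_cast Nat.one_le_iff_ne_zero.2 g2
  rw [chi_tr8]
  constructor <;> linarith

end Cfsg.Agent.LThreeMBTr

end

-- merged: Cfsg.Agent.LThreeMBTr.Fix
section

/-!
# Elements acting fixed point freely on the extraspecial group modulo its centre

`Fpf M x` : only the centre of the extraspecial group commutes with `x`.
-/

set_option autoImplicit false

namespace Cfsg.Agent.LThreeMBTr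

open Cfsg Cfsg.Spor Cfsg.Agent.LeechMat.Core Cfsg.Agent.MonsterX.KSide Cfsg.Agent.MonsterX.KLift
open Cfsg.Agent.MonsterX.FrameKS
open Cfsg.Agent.SporadicStructure.Co0Base (e8 e8_coe)
open Cfsg.Agent.SporadicA.Co0Mono (signCo0 signCo0_add signCo0_zero)
open Cfsg.Agent.SporadicA.Co1Simple (allOne allOne_smul allOne_mem_center)
open Cfsg.Agent.CoOneType.SignFacts (wt sup mem_sup notMem_sup)
open Cfsg.Agent.CoOneType.ClosingFacts (mk mk_eq mk_eq_one mk_mul mk_inv)
open Cfsg.Agent.MonsterU.Lam2 Cfsg.Agent.MonsterU.TwoCls Cfsg.Agent.MonsterU.TwoQ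
open Cfsg.Agent.MonsterU.InvTwo (ι_inj)
open Cfsg.Agent.SigZeroCo2.Lin (rep)

variable {G V P W : Type*} [Group G] [AddCommGroup V] [Module ℚ V]
  [DistribMulAction G V] [SMulCommClass G ℚ V] [Group P] [AddCommGroup W] [Module ℚ W]

/-- Only the centre of the extraspecial group commutes with `x`. -/
def Fpf (M : KS G V P W) (x : G) : Prop := ∀ p : P, x * M.ι p = M.ι p * x → p = 1 ∨ p = M.zc

variable {M : KS G V P W} {θ : leechLattice → P}

/-! ### Data of elements of `K` -/

theorem nn : signCo0 allOne * signCo0 allOne = (1 : Co0) := by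
  rw [← signCo0_add]
  have : (allOne + allOne : golayCode) = 0 := by
    apply Subtype.ext
    funext i
    show (1 : ZMod 2) + 1 = 0
    decide
  rw [this, signCo0_zero]

theorem n_comm (A : Co0) : signCo0 allOne * A = A * signCo0 allOne :=
  (Subgroup.mem_center_iff.1 allOne_mem_center A).symm

theorem mul_n_smul (A : Co0) (v : leechLattice) : (A * signCo0 allOne) • v = -(A • v) := by
  rw [mul_smul, allOne_smul, co0_smul_neg]

theorem Acts_neg {k : G} {A : Co0} {α : P ≃* P} {T : Module.End ℚ W}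
    (hA : Acts M.Sh M.lam M.u M.X M.Θ M.ρ k A α T) :
    Acts M.Sh M.lam M.u M.X M.Θ M.ρ k (A * signCo0 allOne) α (-T) where
  act_u v := by rw [hA.act_u, mul_n_smul, M.u_neg]
  act_sh := hA.act_sh
  act_X := hA.act_X
  act_lam x hx := by
    rw [mul_n_smul, neg_neg]
    exact (hA.act_lam x hx).symm
  act_Θ f v := by
    rw [hA.act_Θ, mul_n_smul, rat_neg, LinearMap.neg_apply, map_neg, map_neg, LinearMap.neg_apply, neg_neg]
  act_ρ p f := by
    rw [LinearMap.neg_apply, LinearMap.neg_apply, hA.act_ρ, map_neg]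

theorem Acts_z {k : G} {A : Co0} {α : P ≃* P} {T : Module.End ℚ W}
    (hA : Acts M.Sh M.lam M.u M.X M.Θ M.ρ k A α T) :
    Acts M.Sh M.lam M.u M.X M.Θ M.ρ (k * M.z) A α (-T) where
  act_u v := by rw [mul_smul, M.z_u, hA.act_u]
  act_sh := hA.act_sh
  act_X x hx := by rw [mul_smul, M.z_X x hx, hA.act_X x hx]
  act_lam := hA.act_lam
  act_Θ f v := by
    rw [mul_smul, M.z_Θ, smul_neg, hA.act_Θ, LinearMap.neg_apply, map_neg, LinearMap.neg_apply]
  act_ρ p f := by
    rw [LinearMap.neg_apply, LinearMap.neg_apply, hA.act_ρ, map_neg]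

/-- An element of `K` inducing `A` has data with `A`. -/
theorem exists_data {k : G} {A : Co0} (hk : k ∈ M.K) (hI : Ind M k A) :
    ∃ α T, Acts M.Sh M.lam M.u M.X M.Θ M.ρ k A α T := by
  obtain ⟨B, α, T, hB⟩ := M.acts k hk
  rcases (mk_eq B A).1 (Ind_mk_eq hB.act_u hI) with e | e
  · exact ⟨α, T, e ▸ hB⟩
  · refine ⟨α, -T, ?_⟩
    have h := Acts_neg hB
    rwa [e, mul_assoc, nn, mul_one] at h

theorem fix_iff (L : Lift M θ) {k : G} {A : Co0} {α : P ≃* P} {T : Module.End ℚ W}
    (hA : Acts M.Sh M.lam M.u M.X M.Θ M.ρ k A α T) (p : P) : α p = p ↔ k * M.ι p = M.ι p * k := by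
  rw [conj_ι hA]
  constructor
  · intro h; rw [h]
  · intro h; exact ι_inj L (mul_right_cancel h)

/-- The fixed points of an element a power of which is fixed point free. -/
theorem no_fix (L : Lift M θ) {k x : G} (hk : k * k * (k * k) = x) (hx : Fpf M x) {A : Co0} {α : P ≃* P}
    {T : Module.End ℚ W} (hA : Acts M.Sh M.lam M.u M.X M.Θ M.ρ k A α T) :
    (∀ p, α p = p → p = 1 ∨ p = M.zc) ∧ ∀ p, α p ≠ M.zc * p := by
  have h1 : ∀ p, k * k * M.ι p = M.ι p * (k * k) → p = 1 ∨ p = M.zc := by
    intro p h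
    apply hx
    rw [← hk]
    calc k * k * (k * k) * M.ι p = k * k * (k * k * M.ι p) := by group
      _ = k * k * (M.ι p * (k * k)) := by rw [h]
      _ = (k * k * M.ι p) * (k * k) := by group
      _ = (M.ι p * (k * k)) * (k * k) := by rw [h]
      _ = M.ι p * (k * k * (k * k)) := by group
  refine ⟨fun p hp => ?_, fun p hp => ?_⟩
  · apply h1
    rw [fix_iff L hA] at hp
    calc k * k * M.ι p = k * (k * M.ι p) := by group
      _ = k * (M.ι p * k) := by rw [hp]
      _ = (k * M.ι p) * k := by group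
      _ = (M.ι p * k) * k := by rw [hp]
      _ = _ := by group
  · have h2 : k * M.ι p = M.z * (M.ι p * k) := by
      rw [conj_ι hA, hp, map_mul, mul_assoc]
      rfl
    have hz : k * M.z = M.z * k := by
      have h3 := conj_ι hA M.zc
      rw [α_zc L] at h3
      exact h3
    have h3 : p = 1 ∨ p = M.zc := by
      apply h1
      calc k * k * M.ι p = k * (k * M.ι p) := by group
        _ = k * M.z * (M.ι p * k) := by rw [h2]; group
        _ = M.z * (k * M.ι p) * k := by rw [hz]; group
        _ = (M.z * M.z) * (M.ι p * (k * k)) := by rw [h2]; group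
        _ = _ := by rw [M.z_mul, one_mul]
    rcases h3 with e | e
    · rw [e, map_one, mul_one] at hp
      exact M.zc_ne hp.symm
    · rw [e, α_zc L, M.zc_mul] at hp
      exact M.zc_ne hp

theorem notMem_Sh (L : Lift M θ) {x : P} (hx : x = 1 ∨ x = M.zc) : x ∉ M.Sh := by
  intro h
  obtain ⟨q, hq⟩ := exists_flip L x h
  rcases hx with rfl | rfl
  · rw [mul_one, mul_inv_cancel, mul_one] at hq
    exact M.zc_ne hq.symm
  · rw [← M.zc_comm, mul_inv_cancel_right, M.zc_mul] at hq
    exact M.zc_ne hq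

/-- The trace of an element a power of which is fixed point free. -/
theorem chr_fpf (L : Lift M θ) (H : Tens M) {k x : G} (hk : k * k * (k * k) = x) (hx : Fpf M x) {A : Co0}
    {α : P ≃* P} {T : Module.End ℚ W} (hA : Acts M.Sh M.lam M.u M.X M.Θ M.ρ k A α T) :
    chr V k = (chi A ^ 2 + chi (A * A)) / 2 + chi A * LinearMap.trace ℚ W T ∧ LinearMap.trace ℚ W T ^ 2 = 1 := by
  classical
  obtain ⟨hfin, J, _, _, b, hJ, hb⟩ := H
  have hfinP : Finite P := Nat.finite_of_card_ne_zero (by rw [L.card]; norm_num)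
  have : Fintype P := Fintype.ofFinite P
  obtain ⟨h1, h2⟩ := no_fix L hk hx hA
  constructor
  · rw [chr_eq M hb hA]
    have h3 : ∑ x ∈ Finset.univ.filter (· ∈ M.Sh), 2⁻¹ * M.B (M.X (α x)) (M.X x) = 0 := by
      refine Finset.sum_eq_zero fun y hy => ?_
      have hy' := (Finset.mem_filter.1 hy).2
      rw [M.B_XX' _ (hA.act_sh y hy') y hy', mul_zero]
      · intro e
        exact notMem_Sh L (h1 y e.symm) hy'
      · intro e
        apply h2 y
        conv_rhs => rw [e]
        rw [M.zc_zc]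
    rw [h3, add_zero]
  · have h3 := tr_sq M hb hJ L hA
    have h4 : (Finset.univ.filter fun p => α p = p) = {1, M.zc} := by
      ext p
      rw [Finset.mem_filter, Finset.mem_insert, Finset.mem_singleton]
      constructor
      · intro h; exact h1 p h.2
      · rintro (rfl | rfl)
        · exact ⟨Finset.mem_univ _, map_one α⟩
        · exact ⟨Finset.mem_univ _, α_zc L α⟩
    have h5 : (Finset.univ.filter fun p => α p = M.zc * p) = ∅ := by
      rw [Finset.filter_eq_empty_iff]
      intro p _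
      exact h2 p
    rw [h4, h5, Finset.card_pair (Ne.symm M.zc_ne), Finset.card_empty] at h3
    norm_num at h3
    rcases h3 with e | e <;> rw [e] <;> norm_num

/-! ### Elements of order three -/

/-- A fixed point free element of order three acts on the lattice without fixed points. -/
theorem fix_zero (L : Lift M θ) {x : G} (h4 : x * x * (x * x) = x) (hx : Fpf M x) {A : Co0}
    {α : P ≃* P} {T : Module.End ℚ W} (hA : Acts M.Sh M.lam M.u M.X M.Θ M.ρ x A α T) (w : leechLattice)
    (hw : A • w = w) : w = 0 := by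
  obtain ⟨n, hn⟩ : ∃ n : ℕ, n = (nrm w).toNat := ⟨_, rfl⟩
  induction n using Nat.strong_induction_on generalizing w with
  | _ n ih =>
    by_contra hne
    have h1 : clP L (α (θ w)) = clP L (θ w) := by
      rw [clP_act L hA, clP_θ, smul_cl, hw]
    obtain ⟨h2, h3⟩ := no_fix L h4 hx hA
    have h5 : cl w = 0 := by
      rcases (clP_eq' L).1 h1 with e | e
      · have := (clP_eq_zero L).2 (h2 _ e)
        rwa [clP_θ] at this
      · exact absurd e (h3 _)
    obtain ⟨v, rfl⟩ := cl_eq_zero.1 h5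
    have h6 : A • v = v := by
      rw [smul_two] at hw
      apply Subtype.ext
      funext i
      have h7 := congrArg (fun w : leechLattice => (w : GolayPt → ℤ) i) hw
      simp only [two_smul] at h7
      have h8 : ((A • v : leechLattice) : GolayPt → ℤ) i + ((A • v : leechLattice) : GolayPt → ℤ) i =
        (v : GolayPt → ℤ) i + (v : GolayPt → ℤ) i := h7
      omega
    have h9 : nrm (2 • v) = 4 * nrm v := by
      show sqNorm ((2 • v : leechLattice) : GolayPt → ℤ) = 4 * sqNorm (v : GolayPt → ℤ)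
      have : ((2 • v : leechLattice) : GolayPt → ℤ) = (2 : ℤ) • (v : GolayPt → ℤ) := by
        rw [two_smul, two_smul]; rfl
      rw [this, sqNorm_smul]; norm_num
    have hv0 : v ≠ 0 := by
      rintro rfl
      exact hne (smul_zero 2)
    have h10 : 0 ≤ nrm v := sqNorm_nonneg _
    have h11 : nrm v ≠ 0 := by
      intro e
      exact hv0 (Subtype.ext (sqNorm_eq_zero e))
    exact hv0 (ih (nrm v).toNat (by omega) v h6 rfl)

theorem mk_pm {A : Co0} (h : Ind M 1 A) : A = 1 ∨ A = signCo0 allOne := by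
  have := Ind_mk_eq h (Ind.one M)
  exact (mk_eq_one A).1 this

/-- Normalised data of an element of order three. -/
theorem exists_three {x : G} (hxK : x ∈ M.K) (h3 : x * x * x = 1) : ∃ A : Co0, A * A * A = 1 ∧ Ind M x A := by
  obtain ⟨A, hA⟩ := ind_exists hxK
  have h1 : Ind M 1 (A * A * A) := by rw [← h3]; exact (hA.mul hA).mul hA
  rcases mk_pm h1 with e | e
  · exact ⟨A, e, hA⟩
  · refine ⟨A * signCo0 allOne, ?_, ?_⟩
    · calc A * signCo0 allOne * (A * signCo0 allOne) * (A * signCo0 allOne)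
          = A * (signCo0 allOne * A) * signCo0 allOne * A * signCo0 allOne := by group
        _ = A * A * (signCo0 allOne * signCo0 allOne) * A * signCo0 allOne := by rw [n_comm]; group
        _ = A * A * A * signCo0 allOne := by rw [nn, mul_one]
        _ = 1 := by rw [e, nn]
    · intro v
      rw [hA, mul_n_smul, M.u_neg]

theorem quad_of (L : Lift M θ) {x : G} (hxK : x ∈ M.K) (h3 : x * x * x = 1) (hx : Fpf M x) {A : Co0}
    (hA3 : A * A * A = 1) (hA : Ind M x A) : Quad A := by
  obtain ⟨α, T, hD⟩ := exists_data hxK hA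
  intro v
  apply fix_zero L (x := x) (by rw [← mul_assoc, h3, one_mul]) hx hD
  rw [co0_smul_add, co0_smul_add]
  have h1 : A • A • A • v = v := by
    rw [← mul_smul, ← mul_smul, hA3, one_smul]
  rw [h1]
  abel

/-- Injectivity on the tensor part. -/
theorem Θ_inj (H : Tens M) {f : W} (h : M.Θ f (rat (e8 none)) = 0) : f = 0 := by
  obtain ⟨hfin, J, _, _, b, hJ, hb⟩ := H
  have h1 : ∀ a, b.repr f a = 0 := by
    intro a
    have h2 := B_Θ_basis M hb f (rat (e8 none)) a none
    rw [h, map_zero, LinearMap.zero_apply, rat_e8, Pi.smul_apply, Pi.single_eq_same, smul_eq_mul, mul_one] at h2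
    linarith
  apply b.repr.injective
  ext a
  rw [h1, map_zero]
  rfl

/-- The trace on the spin space of a fixed point free element of order three. -/
theorem tr_three (L : Lift M θ) (H : Tens M) {x : G} (h3 : x * x * x = 1) (hx : Fpf M x) {A : Co0}
    (hA3 : A * A * A = 1) {α : P ≃* P} {T : Module.End ℚ W} (hA : Acts M.Sh M.lam M.u M.X M.Θ M.ρ x A α T) :
    LinearMap.trace ℚ W T = 1 := by
  have h1 := (chr_fpf L H (x := x) (by rw [← mul_assoc, h3, one_mul]) hx hA).2
  have hT : ∀ f, T (T (T f)) = f := by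
    intro f
    have h2 : x • x • x • M.Θ f (rat (e8 none)) = M.Θ f (rat (e8 none)) := by
      rw [← mul_smul, ← mul_smul, h3, one_smul]
    rw [hA.act_Θ, hA.act_Θ, hA.act_Θ, ← mul_smul, ← mul_smul, hA3, one_smul] at h2
    have h4 : M.Θ (T (T (T f)) - f) (rat (e8 none)) = 0 := by
      rw [map_sub, LinearMap.sub_apply, h2, sub_self]
    exact sub_eq_zero.1 (Θ_inj H h4)
  obtain ⟨hfin, J, _, _, b, hJ, hb⟩ := H
  have hfinW : Module.finrank ℚ W = 4096 := by rw [Module.finrank_eq_card_basis b, hJ]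
  have hW : Module.Finite ℚ W := Module.Finite.of_basis b
  obtain ⟨T', g1, g2, g3⟩ := exists_inv M hb hA
  have hT2 : T * T = T' := by
    calc T * T = T * T * (T * T') := by rw [g2, mul_one]
      _ = (T * T * T) * T' := by simp only [mul_assoc]
      _ = T' := by
        have : T * T * T = 1 := by
          ext f
          exact hT f
        rw [this, one_mul]
  have hproj : LinearMap.IsProj (Cfsg.Agent.SigZeroCo2.Rank.fix T) ((1 / 3 : ℚ) • (1 + T + T * T)) := by
    constructor
    · intro v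
      rw [Cfsg.Agent.SigZeroCo2.Rank.mem_fix]
      simp only [LinearMap.smul_apply, LinearMap.add_apply, Module.End.one_apply, Module.End.mul_apply, map_smul,
        map_add, hT]
      congr 1
      abel
    · intro v hv
      rw [Cfsg.Agent.SigZeroCo2.Rank.mem_fix] at hv
      simp only [LinearMap.smul_apply, LinearMap.add_apply, Module.End.one_apply, Module.End.mul_apply, hv]
      module
  have h5 := hproj.trace
  rw [map_smul, map_add, map_add, LinearMap.trace_one, hfinW, hT2, g3, smul_eq_mul] at h5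
  have h6 : (LinearMap.trace ℚ W T - 1) * (LinearMap.trace ℚ W T + 1) = 0 := by linarith
  rcases mul_eq_zero.1 h6 with e | e
  · linarith
  · exfalso
    have h7 : LinearMap.trace ℚ W T = -1 := by linarith
    rw [h7] at h5
    have h8 : (3 * Module.finrank ℚ (Cfsg.Agent.SigZeroCo2.Rank.fix T) : ℚ) = 4094 := by
      rw [← h5]; norm_num
    have h9 : 3 * Module.finrank ℚ (Cfsg.Agent.SigZeroCo2.Rank.fix T) = 4094 := by exact_mod_cast h8
    omega

end Cfsg.Agent.LThreeMBTr

end

-- merged: Cfsg.Agent.LThreeMBTr.Main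
section

/-!
# Two consequences of the trace formula (L3-M-TRACE, for helper68)

`trace_ne` : `x₁ z` and `x y` are not conjugate; `exists_second` : a second conjugate of `z` in `K` commuting with `x`.
-/

set_option autoImplicit false

namespace Cfsg.Agent.LThreeMBTr

open Cfsg Cfsg.Spor Cfsg.Agent.LeechMat.Core Cfsg.Agent.MonsterX.KSide Cfsg.Agent.MonsterX.KLift
open Cfsg.Agent.MonsterX.FrameKS
open Cfsg.Agent.SporadicStructure.Co0Base (e8 e8_coe)
open Cfsg.Agent.SporadicA.Co0Mono (signCo0 signCo0_add signCo0_zero)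
open Cfsg.Agent.SporadicA.Co1Simple (allOne allOne_smul allOne_mem_center)
open Cfsg.Agent.CoOneType.SignFacts (wt sup mem_sup notMem_sup)
open Cfsg.Agent.CoOneType.ClosingFacts (mk mk_eq mk_eq_one mk_mul mk_inv)
open Cfsg.Agent.MonsterU.Lam2 Cfsg.Agent.MonsterU.TwoCls Cfsg.Agent.MonsterU.TwoQ
open Cfsg.Agent.MonsterU.InvTwo (ι_inj)
open Cfsg.Agent.SigZeroCo2.Lin (rep)

variable {G V P W : Type*} [Group G] [AddCommGroup V] [Module ℚ V]
  [DistribMulAction G V] [SMulCommClass G ℚ V] [Group P] [AddCommGroup W] [Module ℚ W]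
  {M : KS G V P W} {θ : leechLattice → P}

/-- The trace of `x z` for a fixed point free `x` of order three is `78`. -/
theorem chr_xz (L : Lift M θ) (H : Tens M) {x : G} (hxK : x ∈ M.K) (h3 : x * x * x = 1) (hx : Fpf M x) :
    chr V (x * M.z) = 78 := by
  obtain ⟨A, hA3, hA⟩ := exists_three hxK h3
  have hq := quad_of L hxK h3 hx hA3 hA
  obtain ⟨α, T, hD⟩ := exists_data hxK hA
  have h4 : x * M.z * (x * M.z) * (x * M.z * (x * M.z)) = x := by
    have e : x * M.z = M.z * x := M.z_comm_K x hxK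
    have e2 : x * M.z * (x * M.z) = x * x := by
      calc x * M.z * (x * M.z) = x * (M.z * x) * M.z := by group
        _ = x * (x * M.z) * M.z := by rw [e]
        _ = x * x * (M.z * M.z) := by group
        _ = x * x := by rw [M.z_mul, mul_one]
    rw [e2, ← mul_assoc, h3, one_mul]
  have h5 := (chr_fpf L H h4 hx (Acts_z hD)).1
  have h6 := chi_quad hq hA3
  have h7 : chi (A * A) = -12 := by
    have : A * A = A⁻¹ := by rw [← mul_eq_one_iff_eq_inv]; exact hA3
    rw [this, chi_inv, h6]
  rw [h5, h6, h7, map_neg, tr_three L H h3 hx hA3 hD]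
  norm_num

/-- Elements of order three and involutions commuting in `G` are induced by commuting elements of `Co0`. -/
theorem comm_of {x y : G} {A B : Co0} (hA : Ind M x A) (hB : Ind M y B) (hA3 : A * A * A = 1)
    (hxy : x * y = y * x) : A * B = B * A := by
  have h1 : mk (A * B) = mk (B * A) := Ind_mk_eq (hA.mul hB) (by rw [hxy]; exact hB.mul hA)
  rcases (mk_eq _ _).1 h1 with e | e
  · exact e
  · exfalso
    -- `A B A⁻¹ = B n`
    obtain ⟨n, hn⟩ : ∃ n, n = signCo0 allOne := ⟨_, rfl⟩
    rw [← hn] at e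
    have hnc : ∀ C : Co0, n * C = C * n := by rw [hn]; exact n_comm
    have hnn : n * n = 1 := by rw [hn]; exact nn
    have s1 : SemiconjBy A B (B * n) := by
      show A * B = B * n * A
      rw [e, mul_assoc, mul_assoc, hnc]
    have s2 : SemiconjBy A (B * n) B := by
      have h := s1.mul_right (show SemiconjBy A n n from (hnc A).symm)
      rwa [mul_assoc, hnn, mul_one] at h
    have s3 : SemiconjBy (A * A * A) B (B * n) := (s1.mul_left s2).mul_left s1
    have e1 : A * A * A * B = B * n * (A * A * A) := s3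
    rw [hA3, one_mul, mul_one] at e1
    have e2 : n = 1 := mul_eq_left.1 e1.symm
    have e3 := chi_neg 1
    rw [one_mul, ← hn, e2, chi_one] at e3
    norm_num at e3

/-- **`x₁ z` is not conjugate to `x y`.** -/
theorem trace_ne (L : Lift M θ) (H : Tens M) {x x1 y g : G} (hxK : x ∈ M.K) (h3 : x * x * x = 1)
    (hx : Fpf M x) (hx1K : x1 ∈ M.K) (h31 : x1 * x1 * x1 = 1) (hx1 : Fpf M x1)
    (hy : y ∈ M.K) (hyy : y * y = 1) (hy1 : y ≠ 1) (hyz : y ≠ M.z) (hxy : x * y = y * x) :
    g * (x1 * M.z) * g⁻¹ ≠ x * y := by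
  intro hcon
  have hc : chr V (x * y) = 78 := by rw [← hcon, chr_conj, chr_xz L H hx1K h31 hx1]
  obtain ⟨A, hA3, hA⟩ := exists_three hxK h3
  have hq := quad_of L hxK h3 hx hA3 hA
  obtain ⟨B, hB⟩ := ind_exists hy
  have hAB := comm_of hA hB hA3 hxy
  -- `B * B = 1`
  have hB2 : B * B = 1 := by
    have h1 : Ind M 1 (B * B) := by rw [← hyy]; exact hB.mul hB
    rcases mk_pm h1 with e | e
    · exact e
    · exact absurd hyy (Cfsg.Agent.MonsterU.TwoB0.two_b0 L hy hB e)
  -- `y` is not in the extraspecial group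
  have hmk : mk B ≠ 1 := by
    intro e
    obtain ⟨p, hp⟩ := (Ind_mem_iff hy hB).2 e
    rw [hp] at hxy
    rcases hx p hxy with e | e
    · exact hy1 (by rw [hp, e, map_one])
    · exact hyz (by rw [hp, e]; rfl)
  have hB1 : B ≠ 1 := fun e => hmk ((mk_eq_one B).2 (Or.inl e))
  have hBn : B ≠ signCo0 allOne := fun e => hmk ((mk_eq_one B).2 (Or.inr e))
  obtain ⟨b1, b2⟩ := chi_bound hB2 hB1 hBn
  have h4 : x * y * (x * y) * (x * y * (x * y)) = x := by
    have e2 : x * y * (x * y) = x * x := by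
      calc x * y * (x * y) = x * (y * x) * y := by group
        _ = x * (x * y) * y := by rw [hxy]
        _ = x * x * (y * y) := by group
        _ = x * x := by rw [hyy, mul_one]
    rw [e2, ← mul_assoc, h3, one_mul]
  obtain ⟨α, T, hD⟩ := exists_data (M.K.mul_mem hxK hy) (hA.mul hB)
  obtain ⟨h5, h6⟩ := chr_fpf L H h4 hx hD
  have h7 := chi_quad_mul hq hA3 hB2 hAB
  have h8 : chi (A * B * (A * B)) = -12 := by
    have e1 : A * B * (A * B) = A⁻¹ := by
      rw [← mul_eq_one_iff_eq_inv, ← hA3]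
      congr 1
      calc A * B * (A * B) = A * (B * A) * B := by group
        _ = A * (A * B) * B := by rw [hAB]
        _ = A * A * (B * B) := by group
        _ = A * A := by rw [hB2, mul_one]
    rw [e1, chi_inv, chi_quad hq hA3]
  rw [h8, hc] at h5
  have h9 : (LinearMap.trace ℚ W T - 1) * (LinearMap.trace ℚ W T + 1) = 0 := by linarith
  have c1 : -11 ≤ chi (A * B) := by linarith
  have c2 : chi (A * B) ≤ 11 := by linarith
  rcases mul_eq_zero.1 h9 with e | e
  · have e' : LinearMap.trace ℚ W T = 1 := by linarith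
    rw [e'] at h5
    nlinarith
  · have e' : LinearMap.trace ℚ W T = -1 := by linarith
    rw [e'] at h5
    nlinarith

/-! ### A second conjugate of `z` -/

/-- Inverting up to the centre does not occur for elements commuting with a fixed point free element of order three. -/
theorem no_anti (L : Lift M θ) {x k : G} (hxK : x ∈ M.K) (h3 : x * x * x = 1) (hx : Fpf M x) {A : Co0}
    {α : P ≃* P} {T : Module.End ℚ W} (hA : Acts M.Sh M.lam M.u M.X M.Θ M.ρ k A α T) (hxk : x * k = k * x)
    (p : P) : α p ≠ M.zc * p := by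
  intro hp
  obtain ⟨B, β, S, hB⟩ := M.acts x hxK
  have hcomm : ∀ q, α (β q) = β (α q) := by
    intro q
    apply ι_inj L
    have h1 : k * x * M.ι q = M.ι (α (β q)) * (k * x) := by
      rw [mul_assoc, conj_ι hB, ← mul_assoc, conj_ι hA, mul_assoc]
    have h2 : x * k * M.ι q = M.ι (β (α q)) * (x * k) := by
      rw [mul_assoc, conj_ι hA, ← mul_assoc, conj_ι hB, mul_assoc]
    rw [hxk, h1] at h2
    exact mul_right_cancel h2
  have hβ : ∀ q, β (β (β q)) = q := by
    intro q
    apply ι_inj L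
    have h1 : x * x * x * M.ι q = M.ι (β (β (β q))) * (x * x * x) := by
      rw [mul_assoc, conj_ι hB, ← mul_assoc, mul_assoc x x, conj_ι hB, ← mul_assoc, ← mul_assoc, conj_ι hB]
      group
    rw [h3, one_mul, mul_one] at h1
    exact h1.symm
  obtain ⟨q1, q2⟩ := no_fix L (x := x) (by rw [← mul_assoc, h3, one_mul]) hx hB
  -- the product of the orbit
  have hz : ∀ a b c : P, M.zc * a * (M.zc * b) * (M.zc * c) = M.zc * (a * b * c) := by
    intro a b c
    calc M.zc * a * (M.zc * b) * (M.zc * c) = M.zc * (a * M.zc) * b * M.zc * c := by group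
      _ = M.zc * (M.zc * a) * b * M.zc * c := by rw [M.zc_comm a]
      _ = a * b * M.zc * c := by rw [M.zc_zc]
      _ = M.zc * (a * b) * c := by rw [M.zc_comm (a * b)]
      _ = _ := by group
  have h4 : α (p * β p * β (β p)) = M.zc * (p * β p * β (β p)) := by
    rw [map_mul α, map_mul α, hcomm, hcomm, hcomm, hp, map_mul β, map_mul β, α_zc L β, α_zc L β, hz]
  have h5 : β (p * β p * β (β p)) = p⁻¹ * (p * β p * β (β p)) * (p⁻¹)⁻¹ := by
    rw [map_mul β, map_mul β, hβ]
    group
  have h6 : β (p * β p * β (β p)) = p * β p * β (β p) := by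
    rcases M.comm_or p⁻¹ (p * β p * β (β p)) with e | e
    · rw [h5, e]
    · rw [e] at h5
      exact absurd h5 (q2 _)
  rcases q1 _ h6 with e | e
  · rw [e, map_one, mul_one] at h4
    exact M.zc_ne h4.symm
  · rw [e, α_zc L, M.zc_mul] at h4
    exact M.zc_ne h4

/-- The trace on the spin space does not vanish. -/
theorem tr_ne_zero (L : Lift M θ) (H : Tens M) {x k : G} (hxK : x ∈ M.K) (h3 : x * x * x = 1) (hx : Fpf M x)
    {A : Co0} {α : P ≃* P} {T : Module.End ℚ W} (hA : Acts M.Sh M.lam M.u M.X M.Θ M.ρ k A α T)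
    (hxk : x * k = k * x) : LinearMap.trace ℚ W T ≠ 0 := by
  classical
  intro h0
  obtain ⟨hfin, J, _, _, b, hJ, hb⟩ := H
  have hfinP : Finite P := Nat.finite_of_card_ne_zero (by rw [L.card]; norm_num)
  have : Fintype P := Fintype.ofFinite P
  have h1 := tr_sq M hb hJ L hA
  have h5 : (Finset.univ.filter fun p => α p = M.zc * p) = ∅ := by
    rw [Finset.filter_eq_empty_iff]
    intro p _
    exact no_anti L hxK h3 hx hA hxk p
  rw [h0, h5, Finset.card_empty] at h1
  have h6 : 0 < (Finset.univ.filter fun p => α p = p).card :=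
    Finset.card_pos.2 ⟨1, Finset.mem_filter.2 ⟨Finset.mem_univ _, map_one α⟩⟩
  have h7 : (0 : ℚ) < (Finset.univ.filter fun p => α p = p).card := by exact_mod_cast h6
  norm_num at h1
  linarith

/-- **A second conjugate of `z` commuting with `x`.** -/
theorem exists_second (L : Lift M θ) (H : Tens M) {t : G}
    (two : ∀ u : G, u * u = 1 → u ≠ 1 → (∃ g, g * M.z * g⁻¹ = u) ∨ ∃ g, g * t * g⁻¹ = u)
    {x k : G} (hxK : x ∈ M.K) (h3 : x * x * x = 1) (hx : Fpf M x) (hk : k ∈ M.K) {c : golayCode}
    (hc : wt c = 8) (hkI : Ind M k (signCo0 c)) (hxk : x * k = k * x) :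
    ∃ u ∈ M.K, u * u = 1 ∧ u ≠ 1 ∧ u ≠ M.z ∧ x * u = u * x ∧ ∃ g, g * M.z * g⁻¹ = u := by
  have hchi : chi (signCo0 c) = 8 := by
    rw [chi_sign, hc]; norm_num
  have hcc : signCo0 c * signCo0 c = 1 := by
    rw [← signCo0_add]
    have : c + c = 0 := by
      apply Subtype.ext
      funext i
      show (c : GolayPt → ZMod 2) i + (c : GolayPt → ZMod 2) i = 0
      exact CharTwo.add_self_eq_zero _
    rw [this, signCo0_zero]
  obtain ⟨α, T, hD⟩ := exists_data hk hkI
  have hT0 := tr_ne_zero L H hxK h3 hx hD hxk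
  -- `k² ∈ {1, z}`
  have h1 : Ind M (k * k) 1 := by rw [← hcc]; exact hkI.mul hkI
  obtain ⟨p, hp⟩ := M.mem_ι_of_trivial (k * k) (M.K.mul_mem hk hk) (fun v => by
    have := h1 v
    rwa [one_smul] at this)
  have h2 : p = 1 ∨ p = M.zc := by
    apply hx
    rw [← hp]
    calc x * (k * k) = (x * k) * k := by group
      _ = (k * x) * k := by rw [hxk]
      _ = k * (x * k) := by group
      _ = k * (k * x) := by rw [hxk]
      _ = k * k * x := by group
  -- `k² = 1`
  have hkk : k * k = 1 := by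
    rcases h2 with e | e
    · rw [hp, e, map_one]
    · exfalso
      have hkz : k * k = M.z := by rw [hp, e]; rfl
      have hT : ∀ f, T (T f) = -f := by
        intro f
        have h4 : k • k • M.Θ f (rat (e8 none)) = -M.Θ f (rat (e8 none)) := by
          rw [← mul_smul, hkz, M.z_Θ]
        rw [hD.act_Θ, hD.act_Θ, ← mul_smul, hcc, one_smul] at h4
        have h5 : M.Θ (T (T f) + f) (rat (e8 none)) = 0 := by
          rw [map_add, LinearMap.add_apply, h4, neg_add_cancel]
        exact eq_neg_of_add_eq_zero_left (Θ_inj H h5)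
      obtain ⟨hfin, J, _, _, b, hJ, hb⟩ := H
      obtain ⟨T', g1, g2, g3⟩ := exists_inv M hb hD
      have hT' : T' = -T := by
        have h5 : T * T = -1 := by
          ext f
          exact hT f
        calc T' = -(T' * (T * T)) := by rw [h5, mul_neg, mul_one, neg_neg]
          _ = -((T' * T) * T) := by rw [mul_assoc]
          _ = -T := by rw [g1, one_mul]
      rw [hT', map_neg] at g3
      apply hT0
      linarith
  -- `k` and `k z` are not in `{1, z}`
  have hne : ∀ u : G, Ind M u (signCo0 c) → u ≠ 1 ∧ u ≠ M.z := by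
    intro u hu
    have key : ¬ Ind M 1 (signCo0 c) := by
      intro h
      rcases mk_pm h with e | e
      · rw [e, chi_one] at hchi
        norm_num at hchi
      · have h5 := chi_neg 1
        rw [one_mul, ← e, hchi, chi_one] at h5
        norm_num at h5
    constructor
    · rintro rfl
      exact key hu
    · rintro rfl
      apply key
      intro v
      rw [one_smul]
      have := hu v
      rwa [M.z_u] at this
  have hkzI : Ind M (k * M.z) (signCo0 c) := (Acts_z hD).act_u
  have hzK : M.z ∈ M.K := M.ι_mem _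
  have hkz2 : k * M.z * (k * M.z) = 1 := by
    calc k * M.z * (k * M.z) = k * (M.z * k) * M.z := by group
      _ = k * (k * M.z) * M.z := by rw [M.z_comm_K k hk]
      _ = k * k * (M.z * M.z) := by group
      _ = 1 := by rw [hkk, M.z_mul, one_mul]
  have hxkz : x * (k * M.z) = k * M.z * x := by
    calc x * (k * M.z) = (x * k) * M.z := by group
      _ = (k * x) * M.z := by rw [hxk]
      _ = k * (x * M.z) := by group
      _ = k * (M.z * x) := by rw [M.z_comm_K x hxK]
      _ = k * M.z * x := by group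
  rcases two k hkk (hne k hkI).1 with h | ⟨g1, hg1⟩
  · exact ⟨k, hk, hkk, (hne k hkI).1, (hne k hkI).2, hxk, h⟩
  rcases two (k * M.z) hkz2 (hne _ hkzI).1 with h | ⟨g2, hg2⟩
  · exact ⟨k * M.z, M.K.mul_mem hk hzK, hkz2, (hne _ hkzI).1, (hne _ hkzI).2, hxkz, h⟩
  exfalso
  have h5 : chr V k = chr V (k * M.z) := by
    have e1 : chr V k = chr V t := by rw [← hg1, chr_conj]
    have e2 : chr V (k * M.z) = chr V t := by rw [← hg2, chr_conj]
    rw [e1, e2]
  classical
  obtain ⟨hfin, J, _, _, b, hJ, hb⟩ := H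
  have hfinP : Finite P := Nat.finite_of_card_ne_zero (by rw [L.card]; norm_num)
  have : Fintype P := Fintype.ofFinite P
  rw [chr_eq M hb hD, chr_eq M hb (Acts_z hD), map_neg, hchi] at h5
  apply hT0
  linarith

end Cfsg.Agent.LThreeMBTr

end
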